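import Mathlib
import Cfsg.Agent.Helper71.BSW.Defs

/-!
# (S10), combinatorial part, for helper71's S3282: pairs of conjugators versus pairs of involutions
-/

set_option autoImplicit false

namespace Cfsg.Agent.Helper87.BSW

open Cfsg Cfsg.Agent.Helper71.BSW

/-- the conjugators of `t` onto a conjugate `u` form a coset of the centralizer -/
theorem card_conjugators {G : Type*} [Group G] [Fintype G] [DecidableEq G] (t u : G)
    (hu : ∃ a : G, a * t * a⁻¹ = u) :
    (Finset.univ.filter (fun a : G => a * t * a⁻¹ = u)).card =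
      Nat.card (Subgroup.centralizer ({t} : Set G)) := by
  classical
  obtain ⟨a₀, ha₀⟩ := hu
  have h1 : Finset.univ.filter (fun a : G => a * t * a⁻¹ = u) =
      (Finset.univ.filter (fun c : G => c * t * c⁻¹ = t)).image (fun c => a₀ * c) := by
    ext a
    simp only [Finset.mem_filter, Finset.mem_univ, true_and, Finset.mem_image]
    constructor
    · intro ha
      refine ⟨a₀⁻¹ * a, ?_, by group⟩
      have : a₀⁻¹ * a * t * (a₀⁻¹ * a)⁻¹ = a₀⁻¹ * (a * t * a⁻¹) * a₀ := by group
      rw [this, ha, ← ha₀]
      group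
    · rintro ⟨c, hc, rfl⟩
      have : a₀ * c * t * (a₀ * c)⁻¹ = a₀ * (c * t * c⁻¹) * a₀⁻¹ := by group
      rw [this, hc, ha₀]
  rw [h1, Finset.card_image_of_injective _ (mul_right_injective a₀)]
  rw [Nat.card_eq_fintype_card, Fintype.card_subtype]
  congr 1
  ext c
  simp only [Finset.mem_filter, Finset.mem_univ, true_and, Subgroup.mem_centralizer_iff,
    Set.mem_singleton_iff, forall_eq]
  constructor
  · intro hc
    calc t * c = c * t * c⁻¹ * c := by rw [hc]
      _ = c * t := by group
  · intro hc
    calc c * t * c⁻¹ = t * c * c⁻¹ := by rw [hc]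
      _ = t := by group

/-- the number of pairs of conjugators `(a, b)` with `t^a t^b = y` is `|C(t)|²` times the number of
pairs of involutions with product `y`, when all involutions are conjugate to `t` -/
theorem card_pairs_eq {G : Type*} [Group G] [Fintype G] [DecidableEq G] (t : G) (ht : orderOf t = 2)
    (hconj : ∀ u : G, orderOf u = 2 → ∃ a : G, a * t * a⁻¹ = u) (y : G) :
    (Finset.univ.filter (fun ab : G × G => ab.1 * t * ab.1⁻¹ * (ab.2 * t * ab.2⁻¹) = y)).card =
      Nat.card (Subgroup.centralizer ({t} : Set G)) ^ 2 * invPairs y := by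
  classical
  have hord : ∀ a : G, orderOf (a * t * a⁻¹) = 2 := by
    intro a
    have := orderOf_injective (MulAut.conj a).toMonoidHom (MulAut.conj a).injective t
    rw [← ht]
    simpa using this
  set P : Finset (G × G) :=
    Finset.univ.filter (fun p : G × G => orderOf p.1 = 2 ∧ orderOf p.2 = 2 ∧ p.1 * p.2 = y) with hP
  have hinv : invPairs y = P.card := by
    unfold invPairs
    rw [Nat.card_eq_fintype_card, Fintype.card_subtype]
  set f : G × G → G × G := fun ab => (ab.1 * t * ab.1⁻¹, ab.2 * t * ab.2⁻¹) with hf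
  have hmaps : ∀ ab ∈ Finset.univ.filter
      (fun ab : G × G => ab.1 * t * ab.1⁻¹ * (ab.2 * t * ab.2⁻¹) = y), f ab ∈ P := by
    intro ab hab
    rw [Finset.mem_filter] at hab
    rw [hP, Finset.mem_filter]
    exact ⟨Finset.mem_univ _, hord _, hord _, hab.2⟩
  rw [Finset.card_eq_sum_card_fiberwise hmaps]
  have hfib : ∀ p ∈ P, ((Finset.univ.filter
      (fun ab : G × G => ab.1 * t * ab.1⁻¹ * (ab.2 * t * ab.2⁻¹) = y)).filter
        (fun ab => f ab = p)).card = Nat.card (Subgroup.centralizer ({t} : Set G)) ^ 2 := by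
    intro p hp
    rw [hP, Finset.mem_filter] at hp
    obtain ⟨-, hp1, hp2, hp3⟩ := hp
    have e : (Finset.univ.filter
        (fun ab : G × G => ab.1 * t * ab.1⁻¹ * (ab.2 * t * ab.2⁻¹) = y)).filter
          (fun ab => f ab = p) =
        (Finset.univ.filter (fun a : G => a * t * a⁻¹ = p.1)) ×ˢ
          (Finset.univ.filter (fun b : G => b * t * b⁻¹ = p.2)) := by
      ext ab
      simp only [Finset.mem_filter, Finset.mem_univ, true_and, Finset.mem_product, hf]
      constructor
      · rintro ⟨-, h2⟩
        rw [← h2]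
        exact ⟨rfl, rfl⟩
      · rintro ⟨h1, h2⟩
        refine ⟨by rw [h1, h2, hp3], Prod.ext h1 h2⟩
    rw [e, Finset.card_product, card_conjugators t p.1 (hconj p.1 hp1),
      card_conjugators t p.2 (hconj p.2 hp2), sq]
  rw [Finset.sum_congr rfl hfib, Finset.sum_const, smul_eq_mul, hinv, mul_comm]

end Cfsg.Agent.Helper87.BSW
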