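import Mathlib
import Cfsg.Agent.Helper71.BSW.DefsCT

/-!
# (S8) for helper71's S3282: no elements of order divisible by `p r` (`p ∣ q`, `r ∣ d`)
-/

set_option autoImplicit false

namespace Cfsg.Agent.Helper87.BSW

open Cfsg Cfsg.Agent.Helper71.BSW

/-- a character of `K` different from `1` and `σ` exists when `4 ≤ |K|` -/
theorem exists_ne_one_ne_sigma {G : Type*} [Group G] {K : Subgroup G} [Fintype (↥K →* ℂˣ)]
    (hcard : Fintype.card (↥K →* ℂˣ) = Nat.card K) (hk : 4 ≤ Nat.card K) (σ : K →* ℂˣ) :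
    ∃ μ : K →* ℂˣ, μ ≠ 1 ∧ μ ≠ σ := by
  classical
  by_contra hcon
  push_neg at hcon
  have hsub : (Finset.univ : Finset (↥K →* ℂˣ)) ⊆ {1, σ} := by
    intro μ _
    rw [Finset.mem_insert, Finset.mem_singleton]
    by_cases h1 : μ = 1
    · exact Or.inl h1
    · exact Or.inr (hcon μ h1)
  have h1 := Finset.card_le_card hsub
  have h2 : ({1, σ} : Finset (↥K →* ℂˣ)).card ≤ 2 := Finset.card_le_two
  rw [Finset.card_univ, hcard] at h1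
  omega

/-- an element whose order is divisible by a prime divisor of `2k + δ` is not conjugate into `K` -/
theorem not_conj_mem_of_dvd {G : Type*} [Group G] {K : Subgroup G} {δ : ℤ} (hδ : δ = 1 ∨ δ = -1)
    {q : ℕ} (hq : (q : ℤ) = 2 * Nat.card K + δ) (g : G) (p : ℕ) (hp : p.Prime) (hpq : p ∣ q)
    (hpg : p ∣ orderOf g) : ∀ x : G, x * g * x⁻¹ ∉ K := by
  intro x hx
  have h1 : orderOf (x * g * x⁻¹) ∣ Nat.card K := Subgroup.orderOf_dvd_natCard K hx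
  have h2 : orderOf (x * g * x⁻¹) = orderOf g := by
    have := orderOf_injective (MulAut.conj x).toMonoidHom (MulAut.conj x).injective g
    simpa using this
  rw [h2] at h1
  have h3 : (p : ℤ) ∣ (Nat.card K : ℤ) := Int.natCast_dvd_natCast.2 (hpg.trans h1)
  have h4 : (p : ℤ) ∣ (q : ℤ) := Int.natCast_dvd_natCast.2 hpq
  have h5 : (p : ℤ) ∣ δ := by
    have : δ = (q : ℤ) - 2 * Nat.card K := by rw [hq]; ring
    rw [this]
    exact dvd_sub h4 (Dvd.dvd.mul_left h3 2)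
  have h6 : (p : ℤ) ∣ 1 := by
    rcases hδ with h | h
    · rwa [h] at h5
    · rw [h] at h5
      exact (dvd_neg.1 h5)
  have h7 : p ∣ 1 := Int.natCast_dvd_natCast.1 (by simpa using h6)
  exact hp.one_lt.ne' (Nat.dvd_one.1 h7)

theorem s_nopr {G : Type*} [Group G] [Fintype G] [Fintype (IrrCharacter G)] {t s : G} {K : Subgroup G}
    [Fintype ↥K] [Fintype (↥K →* ℂˣ)]
    {triv : IrrCharacter G} {σ : K →* ℂˣ} {δ : ℤ} {X : IrrCharacter G}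
    {Λ : (K →* ℂˣ) → IrrCharacter G} {Y₁ Y₂ : IrrCharacter G} {ε₁ ε₂ : ℤ}
    (h : Hyp t s K) (hk : 4 ≤ Nat.card K) (hk2 : 2 ∣ Nat.card K) (T : FactsT t s K) (SA : ShapeA K triv σ δ X Λ Y₁ Y₂ ε₁ ε₂) (FS : FactsS t K triv σ δ X Λ Y₁ Y₂ ε₁ ε₂)
    {q d : ℕ} (hq : (q : ℤ) = 2 * Nat.card K + δ) (hd : (d : ℤ) = Nat.card K + δ)
    (hvan : (∀ g : G, ∀ p : ℕ, p.Prime → p ∣ q → p ∣ orderOf g → (X : G → ℂ) g = 0) ∧
    (∀ g : G, ∀ r : ℕ, r.Prime → r ∣ d → r ∣ orderOf g →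
      (∀ μ : K →* ℂˣ, μ ≠ 1 → μ ≠ σ → (Λ μ : G → ℂ) g = 0) ∧
        (Y₁ : G → ℂ) g = 0 ∧ (Y₂ : G → ℂ) g = 0))
    (hoff : ∀ g : G, (∀ x : G, x * g * x⁻¹ ∉ K) →
    (∀ μ : K →* ℂˣ, μ ≠ 1 → μ ≠ σ →
      1 + (δ : ℂ) * (X : G → ℂ) g - (δ : ℂ) * (Λ μ : G → ℂ) g = 0) ∧
    1 + (δ : ℂ) * (X : G → ℂ) g - (δ : ℂ) * ((Y₁ : G → ℂ) g + (Y₂ : G → ℂ) g) = 0) :
    ∀ g : G, ∀ p r : ℕ, p.Prime → r.Prime → p ∣ q → r ∣ d → p ∣ orderOf g → r ∣ orderOf g → False := by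
  intro g p r hp hr hpq hrd hpg hrg
  have hnc := not_conj_mem_of_dvd SA.hδ hq g p hp hpq hpg
  obtain ⟨μ₀, hμ1, hμσ⟩ := exists_ne_one_ne_sigma T.card_dual hk σ
  have e1 := (hoff g hnc).1 μ₀ hμ1 hμσ
  have e2 := hvan.1 g p hp hpq hpg
  have e3 := (hvan.2 g r hr hrd hrg).1 μ₀ hμ1 hμσ
  rw [e2, e3] at e1
  simp at e1

end Cfsg.Agent.Helper87.BSW
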