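import Mathlib
import Cfsg.Agent.Helper71.BSW.DefsCT
import Cfsg.Agent.Helper79.ClassMult
import Cfsg.Agent.Helper87.BSW.S8
import Cfsg.Agent.Helper87.BSW.S10a

/-!
# (S10) for helper71's S3282: every `d`-element is a product of two involutions in exactly `d` ways
-/

set_option autoImplicit false

namespace Cfsg.Agent.Helper87.BSW

open Cfsg Cfsg.Agent.Helper71.BSW
open scoped ComplexConjugate

theorem s_invD {G : Type*} [Group G] [Fintype G] [Fintype (IrrCharacter G)] {t s : G} {K : Subgroup G}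
    [Fintype ↥K] [Fintype (↥K →* ℂˣ)]
    {triv : IrrCharacter G} {σ : K →* ℂˣ} {δ : ℤ} {X : IrrCharacter G}
    {Λ : (K →* ℂˣ) → IrrCharacter G} {Y₁ Y₂ : IrrCharacter G} {ε₁ ε₂ : ℤ}
    (h : Hyp t s K) (hk : 4 ≤ Nat.card K) (A0 : FactsA0 t s K) (A1 : FactsA1 t s K)
    (T : FactsT t s K) (SA : ShapeA K triv σ δ X Λ Y₁ Y₂ ε₁ ε₂) (FS : FactsS t K triv σ δ X Λ Y₁ Y₂ ε₁ ε₂)
    {q d : ℕ} (hq : (q : ℤ) = 2 * Nat.card K + δ) (hd : (d : ℤ) = Nat.card K + δ)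
    (hvan : (∀ g : G, ∀ p : ℕ, p.Prime → p ∣ q → p ∣ orderOf g → (X : G → ℂ) g = 0) ∧
    (∀ g : G, ∀ r : ℕ, r.Prime → r ∣ d → r ∣ orderOf g →
      (∀ μ : K →* ℂˣ, μ ≠ 1 → μ ≠ σ → (Λ μ : G → ℂ) g = 0) ∧
        (Y₁ : G → ℂ) g = 0 ∧ (Y₂ : G → ℂ) g = 0))
    (hoff : ∀ g : G, (∀ x : G, x * g * x⁻¹ ∉ K) →
    (∀ μ : K →* ℂˣ, μ ≠ 1 → μ ≠ σ →
      1 + (δ : ℂ) * (X : G → ℂ) g - (δ : ℂ) * (Λ μ : G → ℂ) g = 0) ∧
    1 + (δ : ℂ) * (X : G → ℂ) g - (δ : ℂ) * ((Y₁ : G → ℂ) g + (Y₂ : G → ℂ) g) = 0) :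
    ∀ y : G, y ≠ 1 → (orderOf y).Coprime (2 * Nat.card K * q) → invPairs y = d := by
  classical
  intro y hy1 hcop
  -- arithmetic
  have hδ2 : (δ : ℂ) * δ = 1 := by
    rcases SA.hδ with hδ | hδ <;> rw [hδ] <;> norm_num
  have hcardG : Nat.card G = 2 * Nat.card K * q * d := by
    have := FS.card_G
    rw [← hq, ← hd] at this
    exact_mod_cast this
  -- a prime divisor `r` of the order of `y` dividing `d`
  have hyd : orderOf y ∣ d := by
    have h1 : orderOf y ∣ Nat.card G := orderOf_dvd_natCard y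
    rw [hcardG] at h1
    exact Nat.Coprime.dvd_of_dvd_mul_left hcop h1
  have hy1' : orderOf y ≠ 1 := fun h' => hy1 (orderOf_eq_one_iff.1 h')
  obtain ⟨r, hr, hry⟩ := Nat.exists_prime_and_dvd hy1'
  have hrd : r ∣ d := hry.trans hyd
  -- `y` is not conjugate into `K`
  have hnc : ∀ x : G, x * y * x⁻¹ ∉ K := by
    intro x hx
    have h1 : orderOf (x * y * x⁻¹) ∣ Nat.card K := Subgroup.orderOf_dvd_natCard K hx
    have h2 : orderOf (x * y * x⁻¹) = orderOf y := by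
      have := orderOf_injective (MulAut.conj x).toMonoidHom (MulAut.conj x).injective y
      simpa using this
    rw [h2] at h1
    have h3 : orderOf y ∣ 2 * Nat.card K * q :=
      h1.trans (Dvd.intro_left 2 rfl |>.trans (Dvd.intro q rfl))
    exact hy1' (Nat.Coprime.eq_one_of_dvd hcop h3)
  -- values at `y`
  obtain ⟨μ₀, hμ1, hμσ⟩ := exists_ne_one_ne_sigma T.card_dual hk σ
  have hvy := hvan.2 y r hr hrd hry
  have hXy : (X : G → ℂ) y = -(δ : ℂ) := by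
    have e1 := (hoff y hnc).1 μ₀ hμ1 hμσ
    rw [hvy.1 μ₀ hμ1 hμσ, mul_zero, sub_zero] at e1
    have e2 : (δ : ℂ) * (1 + (δ : ℂ) * (X : G → ℂ) y) = 0 := by rw [e1, mul_zero]
    have e3 : (δ : ℂ) * (1 + (δ : ℂ) * (X : G → ℂ) y) = (δ : ℂ) + (δ * δ) * (X : G → ℂ) y := by ring
    rw [e3, hδ2, one_mul] at e2
    exact eq_neg_of_add_eq_zero_right e2
  -- `t`
  have ht1 : t ≠ 1 := by
    intro h'
    have := h.ht
    rw [h', orderOf_one] at this
    omega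
  -- the character sum
  have hsum : ∑ χ : IrrCharacter G,
      (χ : G → ℂ) t * (χ : G → ℂ) t * conj ((χ : G → ℂ) y) / (χ : G → ℂ) 1 =
      1 + (-(δ : ℂ)) / (2 * (Nat.card K : ℂ) + δ) := by
    rw [Finset.sum_eq_add triv X SA.X_ne.symm]
    · congr 1
      · rw [SA.triv_apply, SA.triv_apply, SA.triv_apply]
        simp
      · rw [FS.val_X t h.htK ht1, hXy, FS.deg_X, map_neg, map_intCast, mul_neg, hδ2, one_mul]
    · intro χ _ hχ
      obtain ⟨hχ1, hχ2⟩ := hχ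
      by_cases hY1 : χ = Y₁
      · rw [hY1, hvy.2.1]
        simp
      by_cases hY2 : χ = Y₂
      · rw [hY2, hvy.2.2]
        simp
      by_cases hΛ : ∃ μ : K →* ℂˣ, μ ≠ 1 ∧ μ ≠ σ ∧ χ = Λ μ
      · obtain ⟨μ, hμ1', hμσ', rfl⟩ := hΛ
        rw [hvy.1 μ hμ1' hμσ']
        simp
      · have h0 : (χ : G → ℂ) t = 0 := by
          apply FS.val_other χ hχ1 hχ2 hY1 hY2 _ t h.htK ht1
          intro μ hμ1' hμσ' hχμ
          exact hΛ ⟨μ, hμ1', hμσ', hχμ⟩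
        rw [h0]
        simp
    · intro h'; exact absurd (Finset.mem_univ _) h'
    · intro h'; exact absurd (Finset.mem_univ _) h'
  -- class multiplication
  have hcm := Cfsg.Agent.Helper79.card_conj_mul_conj_eq (G := G) t t y
  have hconj : ∀ u : G, orderOf u = 2 → ∃ a : G, a * t * a⁻¹ = u := by
    intro u hu
    exact isConj_iff.1 (h.hconj t u h.ht hu)
  rw [card_pairs_eq t h.ht hconj y, A0.card_cent_t, hsum] at hcm
  -- arithmetic
  have hG : (Nat.card G : ℂ) = 2 * (Nat.card K : ℂ) * (2 * (Nat.card K : ℂ) + δ) * ((Nat.card K : ℂ) + δ) := by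
    have := congrArg (Int.cast : ℤ → ℂ) FS.card_G
    push_cast at this
    exact this
  have hk0 : (Nat.card K : ℂ) ≠ 0 := by
    have : Nat.card K ≠ 0 := by omega
    exact_mod_cast this
  have hq0 : 2 * (Nat.card K : ℂ) + δ ≠ 0 := by
    have h1 : (2 * (Nat.card K : ℤ) + δ) ≠ 0 := by
      rcases SA.hδ with hδ | hδ <;> rw [hδ] <;> omega
    have h2 : ((2 * (Nat.card K : ℤ) + δ : ℤ) : ℂ) ≠ 0 := by exact_mod_cast h1
    push_cast at h2
    exact h2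
  rw [hG] at hcm
  push_cast at hcm
  have hfin : (invPairs y : ℂ) = (Nat.card K : ℂ) + δ := by
    have e : (2 * (Nat.card K : ℂ)) ^ 2 * (invPairs y : ℂ) =
        (2 * (Nat.card K : ℂ)) ^ 2 * ((Nat.card K : ℂ) + δ) := by
      rw [hcm]
      field_simp
      ring
    have h2k : (2 * (Nat.card K : ℂ)) ^ 2 ≠ 0 := pow_ne_zero 2 (mul_ne_zero two_ne_zero hk0)
    exact mul_left_cancel₀ h2k e
  have hfin2 : ((invPairs y : ℤ) : ℂ) = ((d : ℤ) : ℂ) := by
    rw [hd]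
    push_cast
    exact hfin
  have hfin3 : (invPairs y : ℤ) = (d : ℤ) := by exact_mod_cast hfin2
  exact_mod_cast hfin3

end Cfsg.Agent.Helper87.BSW
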